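import Mathlib.RingTheory.Ideal.AssociatedPrime.Localization
import Mathlib.RingTheory.Ideal.AssociatedPrime.Finiteness
import Mathlib.RingTheory.Ideal.Colon
import Mathlib.RingTheory.Regular.IsSMulRegular
import Mathlib.RingTheory.Ideal.Quotient.Operations

/-!
# Lifting regular elements under (S₁)
-/

universe u

namespace Groth.Agent.CAlgLifts

variable {A : Type u} [CommRing A] [IsNoetherianRing A]

theorem exists_regular_lift (hS1 : ∀ p ∈ associatedPrimes A A, p ∈ minimalPrimes A) (I : Ideal A)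
    (b : A ⧸ I) (hb : b ∈ nonZeroDivisors (A ⧸ I)) :
    ∃ a : A, a ∈ nonZeroDivisors A ∧ Ideal.Quotient.mk I a = b := by
  classical
  obtain ⟨a₀, rfl⟩ := Ideal.Quotient.mk_surjective b
  have hfin := associatedPrimes.finite A A
  have hI : ∀ p ∈ minimalPrimes A, I ≤ p → a₀ ∉ p := by
    intro p hp hIp ha
    have hp' : p ∈ I.minimalPrimes :=
      ⟨⟨hp.1.1, hIp⟩, fun q hq hqp => hp.2 ⟨hq.1, bot_le⟩ hqp⟩
    rw [← Ideal.annihilator_quotient (I := I)] at hp'
    have h1 := Module.associatedPrimes.minimalPrimes_annihilator_subset_associatedPrimes A (A ⧸ I) hp'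
    have h2 : a₀ ∈ {r : A | IsSMulRegular (A ⧸ I) r}ᶜ := by
      rw [← biUnion_associatedPrimes_eq_compl_regular]
      exact Set.mem_biUnion h1 ha
    refine h2 fun x y hxy => ?_
    have h3 : Ideal.Quotient.mk I a₀ * x = Ideal.Quotient.mk I a₀ * y := hxy
    rw [mul_comm _ x, mul_comm _ y] at h3
    exact sub_eq_zero.1 (mul_right_mem_nonZeroDivisors_eq_zero_iff hb |>.1 (by rw [sub_mul, h3, sub_self]))
  let T := hfin.toFinset.filter fun p => ¬ I ≤ p
  let S₁ := T.filter fun p => a₀ ∈ p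
  let S₂ := T.filter fun p => a₀ ∉ p
  have hnot : ¬ ((I ⊓ S₂.inf id : Ideal A) : Set A) ⊆ ⋃ p ∈ (↑S₁ : Set (Ideal A)), (id p : Ideal A) := by
    intro hsub
    obtain ⟨p, hp, hle⟩ := (Ideal.subset_union_prime ⊥ ⊥ fun p hp _ _ => by
      simp only [S₁, T, Finset.mem_filter, Set.Finite.mem_toFinset] at hp
      exact (hS1 p hp.1.1).1.1).1 hsub
    simp only [S₁, T, Finset.mem_filter, Set.Finite.mem_toFinset] at hp
    have hprime := (hS1 p hp.1.1).1.1
    rcases hprime.inf_le.1 hle with h | h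
    · exact hp.1.2 h
    · obtain ⟨q, hq, hqp⟩ := (Ideal.IsPrime.inf_le' hprime).1 h
      simp only [S₂, T, Finset.mem_filter, Set.Finite.mem_toFinset] at hq
      have := (hS1 p hp.1.1).2 ⟨(hS1 q hq.1.1).1.1, bot_le⟩ hqp
      exact hq.2 (le_antisymm this hqp ▸ hp.2)
  obtain ⟨i, hi, hiS⟩ := Set.not_subset.1 hnot
  refine ⟨a₀ + i, ?_, by rw [map_add, Ideal.Quotient.eq_zero_iff_mem.2 hi.1, add_zero]⟩
  by_contra hnz
  have h2 : a₀ + i ∈ ((nonZeroDivisors A : Submonoid A) : Set A)ᶜ := hnz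
  rw [← biUnion_associatedPrimes_eq_compl_nonZeroDivisors] at h2
  obtain ⟨p, hp, hmem⟩ := Set.mem_iUnion₂.1 h2
  by_cases hIp : I ≤ p
  · exact hI p (hS1 p hp) hIp (by simpa using p.sub_mem hmem (hIp hi.1))
  by_cases ha : a₀ ∈ p
  · exact hiS (Set.mem_biUnion (x := p) (by simp [S₁, T, hp, hIp, ha]) (by simpa using p.sub_mem hmem ha))
  · have hpS : p ∈ S₂ := by simp [S₂, T, hp, hIp, ha]
    have h3 : i ∈ p := SetLike.le_def.1 (Finset.inf_le (f := id) hpS) hi.2
    exact ha (by simpa using p.sub_mem hmem h3)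

end Groth.Agent.CAlgLifts
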