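import Mathlib.LinearAlgebra.TensorProduct.Quotient
import Mathlib.LinearAlgebra.TensorProduct.Tower
import Mathlib.RingTheory.Flat.Basic
import Mathlib.RingTheory.Ideal.Operations
import Mathlib.Tactic.Abel

/-!
# Helpers for the torsor of lifts of direct summands
-/

universe u v

open scoped TensorProduct

namespace Groth.Agent.CAlgLifts

variable {R : Type u} [CommRing R] (𝔫 : Ideal R)
variable {H : Type v} [AddCommGroup H] [Module R H]

lemma mem_baseChange_quot {F : Submodule R H} {z : (R ⧸ 𝔫) ⊗[R] H} :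
    z ∈ Submodule.baseChange (R ⧸ 𝔫) F ↔ ∃ a ∈ F, (1 : R ⧸ 𝔫) ⊗ₜ[R] a = z := by
  constructor
  · rintro ⟨w, rfl⟩
    obtain ⟨a, rfl⟩ := TensorProduct.mk_surjective R F (R ⧸ 𝔫) Ideal.Quotient.mk_surjective w
    exact ⟨a, a.2, rfl⟩
  · rintro ⟨a, ha, rfl⟩
    exact Submodule.tmul_mem_baseChange_of_mem 1 ha

lemma one_tmul_eq_zero_iff {x : H} :
    ((1 : R ⧸ 𝔫) ⊗ₜ[R] x : (R ⧸ 𝔫) ⊗[R] H) = 0 ↔ x ∈ 𝔫 • (⊤ : Submodule R H) := by
  rw [← (TensorProduct.quotTensorEquivQuotSMul H 𝔫).map_eq_zero_iff, ← map_one (Ideal.Quotient.mk 𝔫),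
    TensorProduct.quotTensorEquivQuotSMul_mk_tmul, one_smul]
  exact Submodule.Quotient.mk_eq_zero _

lemma one_tmul_eq_iff {x y : H} :
    ((1 : R ⧸ 𝔫) ⊗ₜ[R] x : (R ⧸ 𝔫) ⊗[R] H) = 1 ⊗ₜ y ↔ x - y ∈ 𝔫 • (⊤ : Submodule R H) := by
  rw [← sub_eq_zero, ← TensorProduct.tmul_sub, one_tmul_eq_zero_iff]

variable {K : Type v} [AddCommGroup K] [Module R K]

lemma map_mem_smul_top (f : H →ₗ[R] K) {x : H} (hx : x ∈ 𝔫 • (⊤ : Submodule R H)) :
    f x ∈ 𝔫 • (⊤ : Submodule R K) := by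
  have h := Submodule.mem_map_of_mem (f := f) hx
  rw [Submodule.map_smul''] at h
  exact Submodule.smul_mono le_rfl le_top h

end Groth.Agent.CAlgLifts
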